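import Cfsg.Agent.Mrg.Omega.IId.BigD.Inst
import Cfsg.Agent.Mrg.Omega.IId.ThmCD.Blk
import Cfsg.Agent.Mrg.Omega.IId.BigD.Surv.Plug
import Cfsg.Agent.Mrg.Omega.IId.ThmCD.Cor

section


/-!
# CvBig, `q = 2`, CASE 1, over helper653's THEOREM C (`NV.thmCD`)
-/

set_option autoImplicit false

namespace Cfsg.Agent.Omega.IId.NV.BigD

open Subgroup Pointwise Cfsg Cfsg.Agent.ZN Cfsg.Agent.ZN.ChoiceBase
open Cfsg.Agent.Omega.MinPar Cfsg.Agent.Omega.FFThm

universe u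

variable {G : Type u} [Group G] [Finite G] {F : Type} [Field F] [Finite F] [CharP F 2] {S : Sylow 2 G}
  {P V D : Subgroup G} {k : ℕ}

/-- THEOREM C in the form `CCD` -/
theorem ccd (M : NatD F S P V D k) (hF : Nat.card F = 2) : CCD M := fun i v hv hv1 => by
  obtain ⟨h1, -, h2⟩ := NV.thmCD M hF (i := i) hv hv1
  exact ⟨h1, fun l hl q hq x hx => (mem_centralizer_iff.1 (h2 l hl hq) x hx).symm⟩

/-- **CASE 1, `q = 2`, all `k ≥ 2`, all `D`**: `T = N_S(V_i)` Sylow in `N_G(R)`, `V_i` unmixed: contradiction. -/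
theorem false_two (M : NatD F S P V D k) (hF : Nat.card F = 2) (hk : 2 ≤ k) (hD : D ≠ ⊥ ∨ 2 < k) {i : Fin k}
    (hu : Cv.UnM M i) (hd : ¬ 2 ∣ (stab M.toNatV i).relIndex (normalizer (line M.toNatV i : Set G))) : False :=
  Sit.false_of { toSit0 := Sit0.of_unm hF hk (ccd M hF) hu, unm := hu, odd := hd } hD

end Cfsg.Agent.Omega.IId.NV.BigD

end

section


/-!
# The socket `Big2A2` of `CvBigN` (bb OMEGA 20837, 21130): CASE 2a does not occur, `q = 2`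

(helper487; after the element `k`: helper165.)
-/

set_option autoImplicit false
set_option linter.unusedSectionVars false

namespace Cfsg.Agent.Omega.IId.Cv

open Subgroup Pointwise Cfsg Cfsg.Agent.ZN Cfsg.Agent.ZN.ChoiceBase
open Cfsg.Agent.Omega.MinPar Cfsg.Agent.Omega.Frame
open Cfsg.Agent.Omega.IId.NV Cfsg.Agent.Omega.IId.NV.BigD
open Cfsg.Agent.Omega.IId.Big (comm_of_conj conj_of_comm isPGroup_of_sq)
open Triangle (KK mem_cent mem_KK)

universe u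

/-- a maximal 2-subgroup of `N` over `A` -/
theorem exists_max_two {G : Type u} [Group G] [Finite G] {A N : Subgroup G} (hA : IsPGroup 2 A) (hAN : A ≤ N) :
    ∃ T : Subgroup G, IsPGroup 2 T ∧ A ≤ T ∧ T ≤ N ∧ ∀ B : Subgroup G, IsPGroup 2 B → T ≤ B → B ≤ N → B ≤ T := by
  obtain ⟨T, hAT, hT⟩ := (Set.toFinite {B : Subgroup G | IsPGroup 2 B ∧ B ≤ N}).exists_le_maximal (a := A) ⟨hA, hAN⟩
  exact ⟨T, hT.prop.1, hAT, hT.prop.2, fun B hB hTB hBN => hT.le_of_ge ⟨hB, hBN⟩ hTB⟩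

section two

variable {G : Type u} [Group G] [Finite G] {F : Type} [Field F] [Finite F] [CharP F 2] {S : Sylow 2 G}
  {P V D : Subgroup G} {k : ℕ} {M : NatD F S P V D k} {i : Fin k}

/-- `Sit0` from `Mv` -/
theorem sit0_of_mv (hF : Nat.card F = 2) (hk : 2 ≤ k) (hm : Mv M i) : Sit0 M i := by
  obtain ⟨v, hv, hv1⟩ := BigD.exists_line M i
  obtain ⟨x, hx, y, hy, hxy⟩ := hm
  have hvv : v * v = 1 := mul_self_zc (V_le_zz M (NV.fac_le _ i (NV.line_le _ i hv)))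
  refine Sit0.of_KK hF hk (ccd M hF) (NV.line_le _ i hv) hv1 ⟨x, mem_KK.2 ⟨(mem_KX.1 hx).1 v hv, fun q hq => ?_⟩,
    y, hy, hxy⟩
  rw [← BigD.normalizer_line_eq hF hv hv1] at hq
  rcases BigD.eq_of_line hF hv hv1 ((mem_KX.1 hx).2 q hq) with h1 | h1
  · rw [h1]; exact one_mem _
  · rw [h1]; exact mem_zpowers v

/-- **CASE 2a does not occur, `q = 2`, `D ≠ 1`, all `k ≥ 2`.** -/
theorem exists_overT (h : Sit0 M i) (hD : D ≠ ⊥) : ∃ T₁, OverT M i T₁ := by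
  obtain ⟨v, hv, hv1⟩ := BigD.exists_line M i
  have hvi := NV.line_le _ i hv
  have hfr := h.fr
  obtain ⟨T, hT2, hTT, hTV, hmx⟩ := exists_max_two (h.T2) (NV.stab_normalizes M.toNatV i)
  have hqT : ZN.o2 (centralizer ({v} : Set G)) ≤ T := (h.q_T hv hv1).trans hTT
  -- `T ≤ C(v)`
  have hTv : ∀ t ∈ T, t * v = v * t := by
    have hV2 : IsPGroup 2 (NV.fac M.toNatV i) := isPGroup_of_sq fun x hx => hfr.sq i x hx
    have hne : NV.fac M.toNatV i ≠ ⊥ := fun h0 => hv1 (by rwa [h0, mem_bot] at hvi)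
    obtain ⟨u, hu, hu1, huT⟩ := Half.exists_fixed hV2 hne hT2 hTV
    have huv : u = v := by
      by_contra hne
      obtain ⟨a, ha, hau⟩ := hfr.move hvi hu hv1 hu1 (Ne.symm hne)
      rw [huT a (hqT (hfr.KK_le_q hvi hv1 ha))] at hau
      exact hv1 (right_eq_mul.1 hau)
    intro t ht
    rw [← huv]
    exact comm_of_conj (huT t ht)
  have m : Node.Mx (NV.fac M.toNatV) i T v := ⟨hvi, hv1, hT2, hTV, hTv, hqT, hmx⟩
  refine ⟨T, hT2, hTT, hTV, ?_, h.twoA hD hv m hTT⟩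
  rw [h.norm_line hv hv1]
  exact fun t ht => mem_cent.2 (hTv t ht)

end two

/-- **`Big2A2`** -/
theorem big2A2 (K : Cls.{u}) : Big2A2 K := fun _ _ _ _ _ _ _ _ _ _ _ _ _ _ hk _ hD _ hm hF =>
  exists_overT (sit0_of_mv hF (by omega) hm) hD

end Cfsg.Agent.Omega.IId.Cv

end
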