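import Cfsg.Agent.Mrg.Omega.IId.BigD.Inst
import Cfsg.Agent.Mrg.Omega.ThmC.TwoOf
import Cfsg.Agent.Mrg.Omega.NOne.LemmaT

section


/-!
# CvBig, `q = 2`: (OT0) without Sylow hypothesis on `T`

* `kerS M` : the kernel `⨅_l N_S(V_l)`, a Sylow 2-subgroup of `⨅_l C(v_l)`;
* `Sit0.ot0` : **(OT0)**: `H ≥ kerS M` and all `W_v` imply `O₂(H) ≤ O₂(P)`.
-/

set_option autoImplicit false
set_option linter.unusedSectionVars false

namespace Cfsg.Agent.Omega.IId.NV.BigD

open Subgroup Pointwise Cfsg Cfsg.Agent.ZN Cfsg.Agent.ZN.ChoiceBase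
open Cfsg.Agent.Omega.MinPar Cfsg.Agent.Omega.FFThm
open Cfsg.Agent.MinSimple.VModule (o2_isPGroup)
open Cfsg.Agent.Omega.IId.NV
open Cfsg.Agent.Omega.IId.Big (Fr Vo conj_mem norm_of comm_of_conj conj_of_comm isPGroup_of_sq le_Vo Vo_le
  cent_of_closure KK_le_XX XX_le)
open Triangle (KK KK_conj KK_le_o2 mem_cent mem_KK mem_zpowers_iff_of_sq cent_conj o2_cent_conj)

universe u

local notation "cz" v:max => centralizer ({v} : Set _)
local notation "qz" v:max => ZN.o2 (centralizer ({v} : Set _))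

variable {G : Type u} [Group G] [Finite G] {F : Type} [Field F] [Finite F] [CharP F 2] {S : Sylow 2 G}
  {P V D : Subgroup G} {k : ℕ} {M : NatD F S P V D k}

variable (M) in
/-- the kernel of `S` on the factors -/
def kerS : Subgroup G := ⨅ l, stab M.toNatV l

variable (M) in
/-- the elements fixing all lines -/
def C0 : Subgroup G := ⨅ l, normalizer (line M.toNatV l : Set G)

theorem kerS_le (l : Fin k) : kerS M ≤ stab M.toNatV l := iInf_le _ l

namespace Sit0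

variable {i : Fin k} (h : Sit0 M i)
include h

theorem kerS_le_S : kerS M ≤ (S : Subgroup G) := (kerS_le i).trans (stab_le _ i)

theorem mem_C0 {x : G} (hx : x ∈ C0 M) {l : Fin k} {v : G} (hv : v ∈ line M.toNatV l) : x * v = v * x := by
  by_cases hv1 : v = 1
  · rw [hv1, mul_one, one_mul]
  have h1 := mem_iInf.1 hx l
  rw [normalizer_line_eq h.two hv hv1] at h1
  exact mem_cent.1 h1

theorem mem_C0_of {x : G} (hx : ∀ l, ∀ v ∈ line M.toNatV l, x * v = v * x) : x ∈ C0 M := by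
  refine mem_iInf.2 fun l => ?_
  obtain ⟨v, hv, hv1⟩ := exists_line M l
  rw [normalizer_line_eq h.two hv hv1]
  exact mem_cent.2 (hx l v hv)

theorem S_C0 : (S : Subgroup G) ≤ normalizer (C0 M : Set G) := by
  refine norm_of fun s hs x hx => h.mem_C0_of fun l v hv => ?_
  have h1 : s⁻¹ * v * s ∈ line M.toNatV (sg M.toNatV (h.SP (inv_mem hs)) l) := by
    rw [← conj_line M.toNatV h.SP (inv_mem hs) l, mem_cj_iff]
    have e : s⁻¹⁻¹ * (s⁻¹ * v * s) * s⁻¹ = v := by group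
    rwa [e]
  have h2 := h.mem_C0 hx h1
  calc s * x * s⁻¹ * v = s * (x * (s⁻¹ * v * s)) * s⁻¹ := by group
    _ = v * (s * x * s⁻¹) := by rw [h2]; group

theorem inf_C0 : (S : Subgroup G) ⊓ C0 M = kerS M := by
  apply le_antisymm
  · rintro s ⟨hs, hc⟩
    refine mem_iInf.2 fun l => ?_
    obtain ⟨v, hv, hv1⟩ := exists_line M l
    have h1 : s * v = v * s := h.mem_C0 hc hv
    have hsP := h.SP hs
    refine ⟨hs, (mem_normalizer_fac_iff M.toNatV hsP).2 ?_⟩
    by_contra hne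
    refine hv1 (h.fr.disj hne (?_ : v ∈ fac M.toNatV (sg M.toNatV hsP l)) (line_le _ l hv))
    rw [← conj_fac M.toNatV hsP l, mem_cj_iff]
    have e : s⁻¹ * v * s = v := by rw [mul_assoc, ← h1]; group
    rw [e]
    exact line_le _ l hv
  · refine le_inf h.kerS_le_S ?_
    refine le_iInf fun l => (kerS_le l).trans (stab_normalizes_line M.toNatV h.SP l)

theorem odd_C0 : ¬ 2 ∣ (kerS M).relIndex (C0 M) := by
  rw [← h.inf_C0]
  exact Cfsg.Agent.Omega.ThmC.TwoOf.not_dvd_relIndex_inf (P := (S : Subgroup G) ⊔ C0 M) le_sup_left le_sup_right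
    (sup_le h.S_C0 le_normalizer) (MinSimple.Basic.not_dvd_relIndex S le_sup_left)

/-- an element of `Q_v ∩ S` fixing all factors -/
theorem q_le_kerS {l : Fin k} {v : G} (hv : v ∈ line M.toNatV l) (hv1 : v ≠ 1) : qz v ≤ kerS M := by
  obtain ⟨h1, h2⟩ := qz_le_stab h.cc hv hv1
  exact le_iInf fun m => le_inf (h1.trans (stab_le _ l)) (h2 m)

/-- `W_v`, `v ∈ V_l`, normalises all factors -/
theorem KK_norm {l : Fin k} {v : G} (hv : v ∈ fac M.toNatV l) (hv1 : v ≠ 1) (m : Fin k) :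
    KK v ≤ normalizer (fac M.toNatV m : Set G) := by
  by_cases hm : m = l
  · subst hm
    exact (KK_le_XX hv hv1).trans (XX_V h.fr m)
  · intro g hg
    refine centralizer_le_normalizer _ (mem_centralizer_iff.2 fun x hx => ?_)
    exact (h.fr.Qc l m hm v hv hv1 g (h.fr.KK_le_q hv hv1 hg) x hx).symm

/-- a 2-subgroup `N` normalising all factors and normalised by all `W_v` centralises all factors -/
theorem cent_fac {N : Subgroup G} (hN2 : IsPGroup 2 N) (hN : ∀ l, N ≤ normalizer (fac M.toNatV l : Set G))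
    {l : Fin k} (hKK : ∀ v ∈ fac M.toNatV l, v ≠ 1 → KK v ≤ normalizer (N : Set G)) :
    N ≤ centralizer (fac M.toNatV l : Set G) := by
  obtain ⟨v, hv, hv1⟩ := exists_line M l
  have hvi := line_le _ l hv
  have hV2 : IsPGroup 2 (fac M.toNatV l) := isPGroup_of_sq fun x hx => h.fr.sq l x hx
  have hne : fac M.toNatV l ≠ ⊥ := fun h0 => hv1 (by rwa [h0, mem_bot] at hvi)
  obtain ⟨w, hw, hw1, hwN⟩ := Half.exists_fixed hV2 hne hN2 (hN l)
  intro x hx
  rw [mem_centralizer_iff]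
  intro u hu
  by_cases hu1 : u = 1
  · rw [hu1, one_mul, mul_one]
  obtain ⟨d, hd, hdu⟩ := XX_trans h.fr hw hu hw1 hu1
  have hdN : d ∈ normalizer (N : Set G) := (XX_le fun v hv hv1 => hKK v hv hv1) hd
  have h1 : d⁻¹ * x * d ∈ N := by
    have := (mem_normalizer_iff.1 (inv_mem hdN) x).1 hx
    rwa [inv_inv] at this
  have h2 := comm_of_conj (hwN _ h1)
  rw [← hdu]
  calc d * w * d⁻¹ * x = d * (w * (d⁻¹ * x * d)) * d⁻¹ := by group
    _ = x * (d * w * d⁻¹) := by rw [← h2]; group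

/-- **(OT0)** -/
theorem ot0 {H : Subgroup G} (hk : kerS M ≤ H) (hKK : ∀ l, ∀ v ∈ fac M.toNatV l, v ≠ 1 → KK v ≤ H) :
    ZN.o2 H ≤ ZN.o2 P := by
  have hfact : Fact (Nat.Prime 2) := ⟨Nat.prime_two⟩
  have hO2 : IsPGroup 2 (ZN.o2 H) := o2_isPGroup H
  have hHO := le_normalizer_o2 H
  have hk2 : IsPGroup 2 (kerS M) := S.isPGroup'.to_le h.kerS_le_S
  have hkC : kerS M ≤ C0 M := by rw [← h.inf_C0]; exact inf_le_right
  set O₀ := ZN.o2 H ⊓ C0 M with hO₀
  have hO₀2 : IsPGroup 2 O₀ := hO2.to_le inf_le_left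
  have hkO₀ : kerS M ≤ normalizer (O₀ : Set G) := norm_of fun t ht x hx =>
    ⟨conj_mem hHO (hk ht) hx.1, mul_mem (mul_mem (hkC ht) hx.2) ((C0 M).inv_mem (hkC ht))⟩
  have hO₀k : O₀ ≤ kerS M := HT.LemE.le_of_odd hk2 hkC h.odd_C0 hO₀2 inf_le_right hkO₀
  -- `O₀` centralises all factors
  set N := ZN.o2 H ⊓ ⨅ l, normalizer (fac M.toNatV l : Set G) with hNdef
  have hNn : ∀ l, N ≤ normalizer (fac M.toNatV l : Set G) := fun l => inf_le_right.trans (iInf_le _ l)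
  have hNK : ∀ l, ∀ v ∈ fac M.toNatV l, v ≠ 1 → KK v ≤ normalizer (N : Set G) := by
    intro l v hv hv1
    refine norm_of fun g hg x hx => ⟨conj_mem hHO (hKK l v hv hv1 hg) hx.1, mem_iInf.2 fun m => ?_⟩
    have hgm := h.KK_norm hv hv1 m hg
    exact mul_mem (mul_mem hgm (mem_iInf.1 hx.2 m)) (inv_mem hgm)
  have hNc : ∀ l, N ≤ centralizer (fac M.toNatV l : Set G) := fun l =>
    h.cent_fac (hO2.to_le inf_le_left) hNn (hNK l)
  have hO₀N : O₀ ≤ N := le_inf inf_le_left (le_iInf fun l => hO₀k.trans ((kerS_le l).trans (stab_normalizes _ l)))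
  have hO₀Z : ∀ x ∈ O₀, ∀ z ∈ zc (o2 P), x * z = z * x := fun x hx z hz =>
    h.comm_of_fac (h.SP (h.kerS_le_S (hO₀k hx)))
      (fun l v hv => (mem_centralizer_iff.1 (hNc l (hO₀N hx)) v hv).symm) hz
  have hO₀P : O₀ ≤ ZN.o2 P := by
    rw [← MinPar.IsParS.inf_centralizer S h.c2 h.par]
    exact le_inf (hO₀k.trans h.kerS_le_S) fun x hx => mem_centralizer_iff.2 fun z hz =>
      (hO₀Z x hx z (zl_le_zz M hz)).symm
  -- suppose `O > O₀`
  by_contra hcon
  have hlt : O₀ < ZN.o2 H := by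
    refine lt_of_le_of_ne inf_le_left fun e => hcon ?_
    rw [← e]
    exact hO₀P
  have hlt2 := Lib.GoldschmidtFusion.lt_inf_normalizer hO2 hlt
  obtain ⟨w, hw, hwO₀, hwT⟩ := SideOf.exists_fixed_mod (T := kerS M) (not_le_of_gt hlt2) inf_le_right
    (hO2.to_le inf_le_left) hk2 hkO₀ (norm_of fun t ht x hx =>
      ⟨conj_mem hHO (hk ht) hx.1, mul_mem (mul_mem (hkO₀ ht) hx.2)
        ((normalizer (O₀ : Set G)).inv_mem (hkO₀ ht))⟩)
  have hPk : o2 P ≤ kerS M := by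
    refine le_iInf fun l => le_inf (o2_le_S M) (norm_of fun x hx v hv => ?_)
    rw [((ZN.mem_zc.1 (V_le_zz M (NV.fac_le _ l hv))).2.1 x hx), mul_inv_cancel_right]
    exact hv
  -- `w` normalises `Q`
  have hwQ : ∀ q ∈ ZN.o2 P, w * q * w⁻¹ ∈ ZN.o2 P := by
    intro q hq
    have h1 := hwT q (hPk hq)
    have e : w * q * w⁻¹ = (q * w * q⁻¹ * w⁻¹)⁻¹ * q := by group
    rw [e]
    exact mul_mem (inv_mem (hO₀P h1)) hq
  have hwn : w ∈ normalizer (ZN.o2 P : Set G) := IITwo.Count.mem_norm hwQ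
  have hwY : ∀ z ∈ zc (ZN.o2 P), w * z * w⁻¹ ∈ zc (ZN.o2 P) := fun z hz =>
    conj_mem (normalizer_le_normalizer_zc _) hwn hz
  have hwn' : ∀ x ∈ O₀, w⁻¹ * x * w ∈ O₀ := fun x hx => by
    have := (mem_normalizer_iff.1 (inv_mem hw.2) x).1 hx
    rwa [inv_inv] at this
  apply hwO₀
  refine ⟨hw.1, h.mem_C0_of fun l v hv => ?_⟩
  by_cases hv1 : v = 1
  · rw [hv1, mul_one, one_mul]
  have hvl := line_le _ l hv
  obtain ⟨b, hb, hb1, hvb⟩ := h.fr.exists_other (i := l) v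
  obtain ⟨a, ha, hab⟩ := h.fr.move hvl hb hv1 hb1 hvb
  have hak : a ∈ kerS M := h.q_le_kerS hv hv1 (h.fr.KK_le_q hvl hv1 ha)
  have hbY : b ∈ zc (ZN.o2 P) := V_le_zz M (NV.fac_le _ l hb)
  have hvY : v ∈ zc (ZN.o2 P) := V_le_zz M (NV.fac_le _ l hvl)
  have ho : w * a * w⁻¹ * a⁻¹ ∈ O₀ := by
    have h1 := inv_mem (hwT a hak)
    have e : (a * w * a⁻¹ * w⁻¹)⁻¹ = w * a * w⁻¹ * a⁻¹ := by group
    rwa [e] at h1
  have hOy : ∀ o ∈ O₀, o * (w * b * w⁻¹) = w * b * w⁻¹ * o := fun o ho => hO₀Z o ho _ (hwY b hbY)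
  have hOv : ∀ o ∈ O₀, o * v = v * o := fun o ho => hO₀Z o ho v hvY
  have key : w * v * w⁻¹ = (w * a * w⁻¹ * a⁻¹) * (a * (w * b * w⁻¹) * a⁻¹) * (w * a * w⁻¹ * a⁻¹)⁻¹ *
      (w * b * w⁻¹)⁻¹ := by
    have e : v = a * b * a⁻¹ * b⁻¹ := by rw [hab, mul_inv_cancel_right]
    calc w * v * w⁻¹ = w * (a * b * a⁻¹ * b⁻¹) * w⁻¹ := by rw [← e]
      _ = _ := by group
  rcases h.fr.KK_act hvl ha (h.zz_q hvl hv1 (hwY b hbY)) with h1 | h1
  · rw [h1, hOy _ ho, mul_inv_cancel_right, mul_inv_cancel] at key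
    exact (hv1 (by
      calc v = w⁻¹ * (w * v * w⁻¹) * w := by group
        _ = 1 := by rw [key]; group)).elim
  · rw [h1] at key
    have h2 : (w * a * w⁻¹ * a⁻¹) * (v * (w * b * w⁻¹)) = v * (w * b * w⁻¹) * (w * a * w⁻¹ * a⁻¹) := by
      calc (w * a * w⁻¹ * a⁻¹) * (v * (w * b * w⁻¹)) = ((w * a * w⁻¹ * a⁻¹) * v) * (w * b * w⁻¹) := by group
        _ = v * ((w * a * w⁻¹ * a⁻¹) * (w * b * w⁻¹)) := by rw [hOv _ ho]; group
        _ = _ := by rw [hOy _ ho]; group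
    rw [h2, mul_inv_cancel_right, mul_inv_cancel_right] at key
    exact comm_of_conj key

/-- **(OT0)**: moreover `Ω₁Z(O₂(P)) ≤ Z(O₂(H))` if `H` has characteristic 2 and contains `Ω₁Z(O₂(P))` -/
theorem ot0_z {H : Subgroup G} (hk : kerS M ≤ H) (hKK : ∀ l, ∀ v ∈ fac M.toNatV l, v ≠ 1 → KK v ≤ H)
    (hc : H ⊓ centralizer (ZN.o2 H : Set G) ≤ ZN.o2 H) : zc (ZN.o2 P) ≤ ZN.o2 H := by
  have hPk : o2 P ≤ kerS M := by
    refine le_iInf fun l => le_inf (o2_le_S M) (norm_of fun x hx v hv => ?_)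
    rw [((ZN.mem_zc.1 (V_le_zz M (NV.fac_le _ l hv))).2.1 x hx), mul_inv_cancel_right]
    exact hv
  intro z hz
  refine hc ⟨hk (hPk (ZN.zc_le _ hz)), mem_centralizer_iff.2 fun x hx => ?_⟩
  exact (ZN.mem_zc.1 hz).2.1 x (h.ot0 hk hKK hx)

end Sit0

end Cfsg.Agent.Omega.IId.NV.BigD

end

section


/-!
# CvBig, `q = 2`, `V_i` unmixed: LEMMA E without Sylow hypothesis on `T`

* `Ins0.core` : `1 ≠ K' ≤ Ω₁Z(Q_v) ∩ C(X)`, `⟨v⟩ × K'` normalised by `C(v)`: `Ω₁Z(Q_v) ≤ ⟨v⟩ × C(X)`;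
* `Ins0.le` : **LEMMA E**.
-/

set_option autoImplicit false
set_option linter.unusedSectionVars false

namespace Cfsg.Agent.Omega.IId.NV.BigD

open Subgroup Pointwise Cfsg Cfsg.Agent.ZN Cfsg.Agent.ZN.ChoiceBase
open Cfsg.Agent.Omega.MinPar Cfsg.Agent.Omega.FFThm
open Cfsg.Agent.MinSimple.VModule (o2_isPGroup)
open Cfsg.Agent.Omega.IId.NV
open Cfsg.Agent.Omega.IId.Big (Fr Vo conj_mem norm_of comm_of_conj conj_of_comm isPGroup_of_sq le_Vo Vo_le
  cent_of_closure KK_le_XX XX_le)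
open Triangle (KK KK_conj KK_le_o2 mem_cent mem_KK mem_zpowers_iff_of_sq cent_conj o2_cent_conj)
open Cfsg.Agent.Omega.BTwo (BT BTS WW QQ CenX pt)

universe u

local notation "cz" v:max => centralizer ({v} : Set _)
local notation "qz" v:max => ZN.o2 (centralizer ({v} : Set _))

section noA

variable {G : Type*} [Group G] [Finite G] {κ : Type*} {V : Subgroup G} {R : κ → Subgroup G}

/-- no four-group `A ≤ C(X)` in a subgroup `E ≤ R C(X)` normalised by `N(R)` with `r ∈ Z(O₂(C(y)))` for `y ∈ A#` -/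
theorem no_A (b : BTS V R) {i : κ} {r : G} (hr : ∀ x ∈ R i, x = 1 ∨ x = r) (hri : r ∈ R i)
    (hnc : ∃ k ∈ normalizer (R i : Set G), ∃ v ∈ V, ∃ w ∈ V, v * (k * w * k⁻¹) ≠ k * w * k⁻¹ * v)
    {E A : Subgroup G} (hKE : normalizer (R i : Set G) ≤ normalizer (E : Set G))
    (hEm : ∀ e ∈ E, e ∈ CenX V R ∨ r * e ∈ CenX V R) (hAE : A ≤ E) (hAX : A ≤ CenX V R)
    (hA3 : ∃ y ∈ A, ∃ y' ∈ A, y ≠ 1 ∧ y' ≠ 1 ∧ y * y' ≠ 1) (hAg : ∀ y ∈ A, y ≠ 1 → HT.LemE.Good r y) : False := by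
  have hr1 : r ≠ 1 := by
    rintro rfl
    refine b.R_ne i ((eq_bot_iff_forall _).2 fun x hx => ?_)
    rcases hr x hx with h | h <;> exact h
  have hrr : r * r = 1 := b.V_sq r (b.R_le i hri)
  have hKr : ∀ k ∈ normalizer (R i : Set G), k * r = r * k := by
    intro k hk
    have h1 := (mem_normalizer_iff.1 hk r).1 hri
    rcases hr _ h1 with h | h
    · exact (cj_ne_one hr1 h).elim
    · exact comm_of_conj h
  obtain ⟨k0, hk0, v0, hv0, w0, hw0, hne⟩ := hnc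
  have hEk : ∀ e ∈ E, e ∈ centralizer (BTwo.cj k0 (BTwo.XX V R) : Set G) ∨
      r * e ∈ centralizer (BTwo.cj k0 (BTwo.XX V R) : Set G) := by
    intro e he
    have h1 : k0⁻¹ * e * k0 ∈ E := by
      have := (mem_normalizer_iff.1 (inv_mem (hKE hk0)) e).1 he
      rwa [inv_inv] at this
    rw [BTwo.centralizer_cj, BTwo.mem_cj, BTwo.mem_cj]
    rcases hEm _ h1 with h2 | h2
    · exact Or.inl h2
    · right
      have h3 : k0⁻¹ * (r * e) * k0 = r * (k0⁻¹ * e * k0) := by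
        have h4 : k0⁻¹ * r = r * k0⁻¹ := by
          rw [inv_mul_eq_iff_eq_mul, ← mul_assoc, hKr k0 hk0, mul_inv_cancel_right]
        calc k0⁻¹ * (r * e) * k0 = (k0⁻¹ * r) * e * k0 := by group
          _ = _ := by rw [h4]; group
      rw [h3]; exact h2
  have ab : ∀ f : G, ∀ a ∈ ZN.o2 (centralizer ({f} : Set G)) ⊓
      centralizer (ZN.o2 (centralizer ({f} : Set G)) : Set G),
      ∀ c ∈ ZN.o2 (centralizer ({f} : Set G)) ⊓ centralizer (ZN.o2 (centralizer ({f} : Set G)) : Set G),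
      a * c = c * a := fun f a ha c hc => mem_centralizer_iff.1 hc.2 a ha.1
  obtain ⟨y, hy, y', hy', y1, y1', y1''⟩ := hA3
  have hfin : ∀ z ∈ A, z ≠ 1 → z ∈ centralizer (BTwo.cj k0 (BTwo.XX V R) : Set G) → False := by
    intro z hz hz1 hzk
    have g1 := hAg z hz hz1
    have h1 := HT.LemE.cj_le b.toBT hr g1 (hKr k0 hk0) hzk (BTwo.conj_mem_cj hw0)
    have h2 : z ∈ centralizer (BTwo.cj 1 (BTwo.XX V R) : Set G) := by
      rw [BTwo.cj_one]; exact hAX hz
    have h3 := HT.LemE.cj_le b.toBT hr g1 (by rw [one_mul, mul_one]) h2 (by rw [BTwo.cj_one]; exact hv0)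
    exact hne (ab z _ h3 _ h1)
  rcases hEk y (hAE hy) with h | h
  · exact hfin y hy y1 h
  rcases hEk y' (hAE hy') with h' | h'
  · exact hfin y' hy' y1' h'
  refine hfin (y * y') (mul_mem hy hy') y1'' ?_
  have hry : r * y = y * r := mem_centralizer_iff.1 (b.CenX_le_cen (hAX hy)) r (b.R_le i hri)
  have e1 : r * y * (r * y') = y * y' := by
    calc r * y * (r * y') = (r * y) * r * y' := by group
      _ = y * (r * r) * y' := by rw [hry]; group
      _ = y * y' := by rw [hrr, mul_one]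
  rw [← e1]
  exact mul_mem h h'

end noA

section frame

variable {G : Type u} [Group G] [Finite G] {F : Type} [Field F] [Finite F] [CharP F 2] {S : Sylow 2 G}
  {P V D : Subgroup G} {k : ℕ} {M : NatD F S P V D k}

namespace Ins0

variable {i : Fin k} {κ : Type*} {R : κ → Subgroup G} {o : κ} (h : Ins0 M i R o)
include h

/-- the core of LEMMA E -/
theorem core {r : G} (hr : r ∈ line M.toNatV i) (hr1 : r ≠ 1) {K : Subgroup G} (hKq : K ≤ zc (qz r))
    (hKX : K ≤ CenX (fac M.toNatV i) R) (hne : K ≠ ⊥) (hT : kerS M ≤ normalizer (K : Set G))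
    (hKK : ∀ l, l ≠ i → ∀ v ∈ fac M.toNatV l, v ≠ 1 → KK v ≤ normalizer (K : Set G))
    (hH : cz r ≤ normalizer ((line M.toNatV i ⊔ K : Subgroup G) : Set G)) {u : G} (hu : u ∈ zc (qz r)) :
    u ∈ CenX (fac M.toNatV i) R ∨ r * u ∈ CenX (fac M.toNatV i) R := by
  have hri := line_le _ i hr
  have hXK : BTwo.XX (fac M.toNatV i) R ≤ centralizer (K : Set G) := fun x hx =>
    mem_centralizer_iff.2 fun y hy => (mem_centralizer_iff.1 (hKX hy) x hx).symm
  have hqK : qz r ≤ centralizer (K : Set G) := fun x hx =>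
    mem_centralizer_iff.2 fun y hy => ((ZN.mem_zc.1 (hKq hy)).2.1 x hx).symm
  have hKKi : ∀ v ∈ fac M.toNatV i, v ≠ 1 → KK v ≤ centralizer (K : Set G) := by
    intro v hv hv1 g hg
    obtain ⟨d, hd, hdv⟩ := h.trans_V hv hri hv1 hr1
    have h1 : d * g * d⁻¹ ∈ centralizer (K : Set G) := by
      refine hqK (h.fr.KK_le_q hri hr1 ?_)
      have := KK_conj (h := d) hg
      rwa [hdv] at this
    have h2 := hXK hd
    have e : g = d⁻¹ * (d * g * d⁻¹) * d := by group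
    rw [e]
    exact mul_mem (mul_mem (inv_mem h2) h1) h2
  -- `O := O₂(C(K))`
  set O := ZN.o2 (centralizer (K : Set G)) with hO
  have hON : centralizer (K : Set G) ≤ normalizer (O : Set G) := le_normalizer_o2 _
  have hO2 : IsPGroup 2 O := o2_isPGroup _
  have hOP : O ≤ ZN.o2 P := by
    refine le_trans ?_ (h.toSit0.ot0 (H := normalizer (K : Set G)) hT fun l v hv hv1 => ?_)
    · refine le_o2 ((o2_le _).trans (centralizer_le_normalizer _)) hO2 ?_
      exact (Omega.NOne.LemmaT.normalizer_le_normalizer_centralizer K).trans (normalizer_le_normalizer_o2 _)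
    · by_cases hl : l = i
      · subst hl
        exact (hKKi v hv hv1).trans (centralizer_le_normalizer _)
      · exact hKK l hl v hv hv1
  have hOV : ∀ x ∈ O, ∀ v ∈ V, x * v = v * x := fun x hx v hv => (ZN.mem_zc.1 (V_le_zz M hv)).2.1 x (hOP hx)
  set K₁ := line M.toNatV i ⊔ K with hK₁
  have hK₁K : centralizer (K₁ : Set G) ≤ centralizer (K : Set G) := centralizer_le (show K ≤ K₁ from le_sup_right)
  have hK₁r : centralizer (K₁ : Set G) ≤ cz r := fun x hx =>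
    mem_cent.2 (mem_centralizer_iff.1 hx r ((le_sup_left : line M.toNatV i ≤ K₁) hr)).symm
  have hOK₁ : O ≤ centralizer (K₁ : Set G) := by
    intro x hx
    have h1 : K₁ ≤ cz x := by
      refine sup_le (fun y hy => mem_cent.2 (hOV x hx y (NV.fac_le _ i (line_le _ i hy))).symm) fun y hy => ?_
      exact mem_cent.2 (mem_centralizer_iff.1 ((o2_le _) hx) y hy)
    exact mem_centralizer_iff.2 fun y hy => mem_cent.1 (h1 hy)
  have hOq : O ≤ qz r := by
    have h1 : O ≤ ZN.o2 (centralizer (K₁ : Set G)) := le_o2 hOK₁ hO2 (hK₁K.trans hON)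
    refine h1.trans (le_o2 ((o2_le _).trans hK₁r) (o2_isPGroup _) ?_)
    exact (hH.trans (Omega.NOne.LemmaT.normalizer_le_normalizer_centralizer K₁)).trans
      (normalizer_le_normalizer_o2 _)
  have hK2 : IsPGroup 2 K := (o2_isPGroup _).to_le (hKq.trans (ZN.zc_le _))
  have hchar := Omega.NOne.LemmaT.char2_centralizer h.c2 hK2 hne
  have hzO : zc (qz r) ≤ O := fun z hz => hchar ⟨hqK (ZN.zc_le _ hz), mem_centralizer_iff.2 fun x hx =>
    (ZN.mem_zc.1 hz).2.1 x (hOq hx)⟩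
  -- `Ω₁Z(Q_r) ≤ Q_b` for all `b ∈ V_i#`
  have hub : ∀ b ∈ fac M.toNatV i, b ≠ 1 → u ∈ qz b := by
    intro b hb hb1
    obtain ⟨d, hd, hdb⟩ := h.trans_V hb hri hb1 hr1
    have h1 : d * u * d⁻¹ ∈ qz r := hOq (conj_mem hON (hXK hd) (hzO hu))
    have h2 : d⁻¹ * (d * u * d⁻¹) * d⁻¹⁻¹ ∈ qz (d⁻¹ * r * d⁻¹⁻¹) := by
      rw [o2_cent_conj]
      exact ⟨_, h1, rfl⟩
    have e1 : d⁻¹ * (d * u * d⁻¹) * d⁻¹⁻¹ = u := by group
    have e2 : d⁻¹ * r * d⁻¹⁻¹ = b := by rw [← hdb]; group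
    rwa [e1, e2] at h2
  have hfr := h.fr
  have hrz : ∀ z ∈ zc (qz r), ∀ x ∈ qz r, x * z = z * x := fun z hz => (ZN.mem_zc.1 hz).2.1
  have hrr : r * r = 1 := hfr.sq i r hri
  have hrq : r ∈ zc (qz r) := ZN.mem_zc.2 ⟨hfr.VQ i i r hri hr1 hri, fun x hx =>
    mem_cent.1 ((o2_le _) hx), by rw [pow_two]; exact hrr⟩
  obtain ⟨b, hb, hb1, hrb⟩ := hfr.exists_other (i := i) r
  obtain ⟨a, ha, hab⟩ := hfr.move hri hb hr1 hb1 hrb
  obtain ⟨c, hc, hcr⟩ := hfr.move hb hri hb1 hr1 (Ne.symm hrb)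
  have haq := hfr.KK_le_q hri hr1 ha
  have hbr : b * r = r * b := hfr.comm i i b hb r hri
  have hbb : b * b = 1 := hfr.sq i b hb
  have claim1 : ∀ g ∈ KK b, g * r = r * g → g * u = u * g := by
    intro g hg hgr
    rcases hfr.KK_act hb hg (hub b hb hb1) with h1 | h1
    · exact comm_of_conj h1
    · exfalso
      have h2 : g * u * g⁻¹ ∈ zc (qz r) :=
        conj_mem ((le_normalizer_o2 _).trans (normalizer_le_normalizer_zc _)) (mem_cent.2 hgr) hu
      rw [h1] at h2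
      have h3 : b ∈ zc (qz r) := (mul_mem_cancel_right hu).1 h2
      have h4 := hrz b h3 a haq
      rw [h4, mul_inv_cancel_right] at hab
      exact hr1 (mul_eq_right.1 hab.symm)
  have hdich : ∀ g ∈ KK b, g * r = r * g ∨ (c⁻¹ * g) * r = r * (c⁻¹ * g) := by
    intro g hg
    rcases hfr.KK_act hb hg (hfr.VQ i i b hb hb1 hri) with h1 | h1
    · exact Or.inl (comm_of_conj h1)
    · right
      have h2 : g * r = b * r * g := by rw [← h1]; group
      have h3 : c⁻¹ * (b * r) = r * c⁻¹ := by rw [← hcr]; group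
      calc c⁻¹ * g * r = c⁻¹ * (g * r) := by group
        _ = c⁻¹ * (b * r) * g := by rw [h2]; group
        _ = r * (c⁻¹ * g) := by rw [h3]; group
  have claim2 : ∃ w, (w = u ∨ w = r * u) ∧ ∀ g ∈ KK b, g * w = w * g := by
    rcases hfr.KK_act hb hc (hub b hb hb1) with h1 | h1
    · refine ⟨u, Or.inl rfl, fun g hg => ?_⟩
      rcases hdich g hg with h2 | h2
      · exact claim1 g hg h2
      · have h3 := claim1 _ (mul_mem (inv_mem hc) hg) h2
        have h4 := comm_of_conj h1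
        calc g * u = c * (c⁻¹ * g * u) := by group
          _ = (c * u) * (c⁻¹ * g) := by rw [h3]; group
          _ = u * g := by rw [h4]; group
    · have h4 : c * (r * u) = r * u * c := by
        apply comm_of_conj
        calc c * (r * u) * c⁻¹ = (c * r * c⁻¹) * (c * u * c⁻¹) := by group
          _ = (b * r) * b * u := by rw [hcr, h1]; group
          _ = r * (b * b) * u := by rw [hbr]; group
          _ = r * u := by rw [hbb, mul_one]
      refine ⟨r * u, Or.inr rfl, fun g hg => ?_⟩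
      rcases hdich g hg with h2 | h2
      · have h3 := claim1 g hg h2
        calc g * (r * u) = (g * r) * u := by group
          _ = r * (g * u) := by rw [h2]; group
          _ = r * u * g := by rw [h3]; group
      · have h3 := claim1 _ (mul_mem (inv_mem hc) hg) h2
        have h5 : c⁻¹ * g * (r * u) = r * u * (c⁻¹ * g) := by
          calc c⁻¹ * g * (r * u) = (c⁻¹ * g * r) * u := by group
            _ = r * (c⁻¹ * g * u) := by rw [h2]; group
            _ = r * u * (c⁻¹ * g) := by rw [h3]; group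
        calc g * (r * u) = c * (c⁻¹ * g * (r * u)) := by group
          _ = (c * (r * u)) * (c⁻¹ * g) := by rw [h5]; group
          _ = r * u * g := by rw [h4]; group
  obtain ⟨w, hw, hwb⟩ := claim2
  have hwq : w ∈ zc (qz r) := by
    rcases hw with rfl | rfl
    · exact hu
    · exact mul_mem hrq hu
  have hwX : w ∈ CenX (fac M.toNatV i) R := by
    refine h.mem_cenX fun v hv hv1 g hg => ?_
    rcases hfr.cases4 hri hb hr1 hb1 hrb hv with rfl | rfl | rfl | rfl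
    · exact (hv1 rfl).elim
    · exact hrz w hwq g (hfr.KK_le_q hri hr1 hg)
    · exact hwb g hg
    · have h1 := KK_conj (h := a⁻¹) hg
      have e1 : a⁻¹ * (r * b) * a⁻¹⁻¹ = b := by rw [← hab]; group
      rw [e1, inv_inv] at h1
      have h2 := hwb _ h1
      have h3 := hrz w hwq a haq
      calc g * w = a * (a⁻¹ * g * a) * (a⁻¹ * w) := by group
        _ = a * (a⁻¹ * g * a) * (w * a⁻¹) := by
            rw [show a⁻¹ * w = w * a⁻¹ by rw [inv_mul_eq_iff_eq_mul, ← mul_assoc, h3, mul_inv_cancel_right]]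
        _ = a * ((a⁻¹ * g * a) * w) * a⁻¹ := by group
        _ = (a * w) * (a⁻¹ * g * a) * a⁻¹ := by rw [h2]; group
        _ = w * g := by rw [h3]; group
  rcases hw with rfl | rfl
  · exact Or.inl hwX
  · exact Or.inr hwX

/-- **LEMMA E** (no Sylow hypothesis) -/
theorem le (hu : Unm M i) (j : κ) : HTwo.ThmA.LE (fac M.toNatV i) R j := by
  have hfact : Fact (Nat.Prime 2) := ⟨Nat.prime_two⟩
  obtain ⟨r, hr, hr1⟩ := exists_line M i
  have hri := line_le _ i hr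
  have hfr := h.fr
  have hrr : r * r = 1 := hfr.sq i r hri
  have hRo : R o = line M.toNatV i := h.ro
  have hNL : normalizer (R o : Set G) = cz r := by rw [hRo]; exact h.norm_line hr hr1
  have hR : ∀ x ∈ R o, x = 1 ∨ x = r := fun x hx => eq_of_line h.two hr hr1 (by rwa [← hRo])
  have hrR : r ∈ R o := by rw [hRo]; exact hr
  have hrz : ∀ z ∈ zc (qz r), ∀ x ∈ qz r, x * z = z * x := fun z hz => (ZN.mem_zc.1 hz).2.1
  have hrq : r ∈ zc (qz r) := ZN.mem_zc.2 ⟨hfr.VQ i i r hri hr1 hri, fun x hx =>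
    mem_cent.1 ((o2_le _) hx), by rw [pow_two]; exact hrr⟩
  refine HTwo.ThmA.le_all h.bts.toBT (i := o) (fun Λ hΛ hN => ?_) j
  by_contra hΛR
  set X₀ := CenX (fac M.toNatV i) R with hX₀
  set E := R o ⊔ Λ with hE
  have hKE : cz r ≤ normalizer (E : Set G) := by
    intro k hk
    rw [← hNL] at hk
    rw [← BTwo.cj_eq_self_iff, hE, BTwo.cj_sup, BTwo.cj_eq_self_iff.2 hk, BTwo.cj_eq_self_iff.2 (hN hk)]
  have hEm : ∀ l ∈ E, ∃ a ∈ R o, a * l ∈ X₀ := by
    intro l hl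
    have h1 : E ≤ HTwo.Par.RC h.bts.toBT o := by
      refine sup_le (fun a ha => ⟨a⁻¹, inv_mem ha, ?_⟩) hΛ
      rw [inv_mul_cancel]
      exact one_mem _
    exact h1 hl
  have hE0 : E ⊓ X₀ ≠ ⊥ := by
    intro h
    apply hΛR
    intro x hx
    obtain ⟨a, ha, hm⟩ := hΛ x hx
    have h1 : a * x ∈ E ⊓ X₀ :=
      ⟨mul_mem ((le_sup_left : R o ≤ E) ha) ((le_sup_right : Λ ≤ E) hx), hm⟩
    rw [h, mem_bot, mul_eq_one_iff_eq_inv] at h1
    have h2 : x = a⁻¹ := by rw [h1, inv_inv]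
    rw [h2]; exact inv_mem ha
  have hE2 : IsPGroup 2 (E ⊓ X₀ : Subgroup G) := h.bts.CenX_isPGroup.to_le inf_le_right
  -- `N(V_i) ∩ C(r)` normalises `E ∩ C(X)`
  have hNX : ∀ g ∈ cz r, g ∈ normalizer (fac M.toNatV i : Set G) →
      g ∈ normalizer (X₀ : Set G) := fun g _ hg => h.bts.NV_le_NCenX hg
  have hNE : ∀ g ∈ cz r, g ∈ normalizer (fac M.toNatV i : Set G) →
      g ∈ normalizer ((E ⊓ X₀ : Subgroup G) : Set G) := fun g h1 h2 => by
    rw [← BTwo.cj_eq_self_iff, BTwo.cj_inf, BTwo.cj_eq_self_iff.2 (hKE h1), BTwo.cj_eq_self_iff.2 (hNX g h1 h2)]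
  have hqE : qz r ≤ normalizer ((E ⊓ X₀ : Subgroup G) : Set G) := fun g hg =>
    hNE g ((o2_le _) hg) (h.T_V (h.q_T hr hr1 hg))
  -- the subgroup `K`
  set K := zc (qz r) ⊓ (E ⊓ X₀) with hK
  have hKne : K ≠ ⊥ := by
    obtain ⟨e, he, he1, hee⟩ := Half.exists_fixed hE2 hE0 (o2_isPGroup _) hqE
    obtain ⟨n, hn⟩ := hE2 ⟨e, he⟩
    have hn' : e ^ 2 ^ n = 1 := congrArg Subtype.val hn
    -- a power of `e` of order 2
    obtain ⟨m, hm, hm1⟩ : ∃ m : ℕ, e ^ 2 ^ m * e ^ 2 ^ m = 1 ∧ e ^ 2 ^ m ≠ 1 := by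
      have hex : ∃ n, e ^ 2 ^ n = 1 := ⟨n, hn'⟩
      classical
      have h1 := Nat.find_spec hex
      have h0 : Nat.find hex ≠ 0 := by
        intro h0
        rw [h0, pow_zero, pow_one] at h1
        exact he1 h1
      obtain ⟨m, hm⟩ := Nat.exists_eq_succ_of_ne_zero h0
      refine ⟨m, ?_, Nat.find_min hex (by omega)⟩
      rw [hm, pow_succ, pow_mul] at h1
      rw [← pow_two]; exact h1
    have hfE : e ^ 2 ^ m ∈ E ⊓ X₀ := pow_mem he _
    have hfc : ∀ x ∈ qz r, x * e ^ 2 ^ m = e ^ 2 ^ m * x := fun x hx =>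
      ((show Commute x e from comm_of_conj (hee x hx)).pow_right _).eq
    have hfr' : e ^ 2 ^ m ∈ cz r := mem_cent.2
      ((mem_centralizer_iff.1 (h.bts.CenX_le_cen hfE.2) r hri).symm)
    have hfq : e ^ 2 ^ m ∈ qz r := Big.Supply.cz_char2 h.c2 hrr hr1
      ⟨hfr', mem_centralizer_iff.2 fun x hx => hfc x hx⟩
    intro h0
    apply hm1
    rw [← mem_bot, ← h0]
    exact ⟨ZN.mem_zc.2 ⟨hfq, hfc, by rw [pow_two]; exact hm⟩, hfE⟩
  have hczq : cz r ≤ normalizer (zc (qz r) : Set G) := (le_normalizer_o2 _).trans (normalizer_le_normalizer_zc _)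
  have hNK : ∀ g ∈ cz r, g ∈ normalizer (fac M.toNatV i : Set G) → g ∈ normalizer (K : Set G) := fun g h1 h2 => by
    rw [← BTwo.cj_eq_self_iff, hK, BTwo.cj_inf, BTwo.cj_eq_self_iff.2 (hczq h1), BTwo.cj_eq_self_iff.2 (hNE g h1 h2)]
  have hKX : K ≤ X₀ := inf_le_right.trans inf_le_right
  have hK₁ : line M.toNatV i ⊔ K = zc (qz r) ⊓ E := by
    apply le_antisymm
    · refine sup_le (fun x hx => ?_) (inf_le_inf le_rfl inf_le_left)
      rcases eq_of_line h.two hr hr1 hx with rfl | rfl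
      · exact one_mem _
      · exact ⟨hrq, (le_sup_left : R o ≤ E) hrR⟩
    · rintro x ⟨hx, hxE⟩
      obtain ⟨a, ha, hax⟩ := hEm x hxE
      have haq : a ∈ zc (qz r) := by
        rcases hR a ha with rfl | rfl
        · exact one_mem _
        · exact hrq
      have h1 : a * x ∈ K := ⟨mul_mem haq hx, mul_mem ((le_sup_left : R o ≤ E) ha) hxE, hax⟩
      have e : x = a⁻¹ * (a * x) := by group
      rw [e]
      exact mul_mem ((le_sup_left : line M.toNatV i ≤ _) (inv_mem (by rwa [← hRo])))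
        ((le_sup_right : K ≤ _) h1)
  have hcore : ∀ u ∈ zc (qz r), u ∈ X₀ ∨ r * u ∈ X₀ := fun u huq => by
    refine h.core hr hr1 inf_le_left hKX hKne (fun t ht => ?_) (fun l hl v hv hv1 g hg => ?_) ?_ huq
    · exact hNK t (h.T_cz hr (kerS_le i ht)) (h.T_V (kerS_le i ht))
    · have h1 : ∀ x ∈ fac M.toNatV i, g * x = x * g := fun x hx =>
        hfr.Qc l i (Ne.symm hl) v hv hv1 g (hfr.KK_le_q hv hv1 hg) x hx
      exact hNK g (mem_cent.2 (h1 r hri)) (centralizer_le_normalizer _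
        (mem_centralizer_iff.2 fun x hx => (h1 x hx).symm))
    · rw [hK₁]
      intro g hg
      rw [← BTwo.cj_eq_self_iff, BTwo.cj_inf, BTwo.cj_eq_self_iff.2 (hczq hg), BTwo.cj_eq_self_iff.2 (hKE hg)]
  obtain ⟨l, hl⟩ : ∃ l : Fin k, l ≠ i := by
    have hk := h.k2
    by_contra hcon
    push Not at hcon
    have h1 : Fintype.card (Fin k) ≤ 1 := Fintype.card_le_one_iff.2 fun a b => by rw [hcon a, hcon b]
    rw [Fintype.card_fin] at h1
    omega
  refine no_A (E := zc (qz r)) (A := fac M.toNatV l) h.bts hR hrR ?_ (by rw [hNL]; exact hczq) hcore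
    (fun y hy => ?_) (fun y hy => ?_) ?_ fun y hy hy1 => ?_
  · obtain ⟨g, hg, v, hv, w, hw, hne⟩ := hu
    exact ⟨g, by rw [hRo]; exact hg, v, hv, w, hw, hne⟩
  · exact ZN.mem_zc.2 ⟨hfr.VQ i l r hri hr1 hy, fun x hx => hfr.Qc i l hl r hri hr1 x hx y hy, by
      rw [pow_two]; exact hfr.sq l y hy⟩
  · refine h.mem_cenX fun v hv hv1 g hg => ?_
    exact hfr.Qc i l hl v hv hv1 g (hfr.KK_le_q hv hv1 hg) y hy
  · obtain ⟨a, ha, b, hb, ha1, hb1, hab⟩ := hfr.exists_two l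
    refine ⟨a, ha, b, hb, ha1, hb1, fun h0 => hab ?_⟩
    have h2 := hfr.sq l b hb
    calc a = a * b * b := by rw [mul_assoc, h2, mul_one]
      _ = b := by rw [h0, one_mul]
  · exact ⟨hfr.VQ l i y hy hy1 hri, mem_centralizer_iff.2 fun x hx =>
      hfr.Qc l i (Ne.symm hl) y hy hy1 x hx r hri⟩

end Ins0

end frame

end Cfsg.Agent.Omega.IId.NV.BigD

end
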